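import Groth.Agent.KummerConnLib.Kummer
import Groth.Agent.KummerSmLib.Sch
import Groth.Agent.WEtAmpLib.Basic
import Groth.Agent.WEtNormalLib.Main
import Groth.Prelude.Def_Hens2

/-! Charts for relative normal crossings divisors in algebra form. -/

set_option autoImplicit false
set_option linter.style.haveILetI false
set_option backward.isDefEq.respectTransparency false
set_option backward.isDefEq.respectTransparency.types false
set_option maxHeartbeats 1000000
set_option synthInstance.maxHeartbeats 400000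
open CategoryTheory CategoryTheory.Limits AlgebraicGeometry
universe u
open SGA1t

namespace KummerConnLib

/-- Near a point of the divisor the vanishing equations are coordinates. -/
theorem exists_chart {X S : Scheme.{u}} (f : X ⟶ S) {r : ℕ} (φ : Fin r → Γ(X, ⊤))
    (hD : SGA1t.IsRelSNC f φ) (x : X) (hx : Nonempty (SGA1t.vanishingAt φ x)) :
    ∃ (σ G : Type u) (_ : CommRing G) (_ : Algebra (MvPolynomial σ G) (X.presheaf.stalk x))
      (_ : Algebra.WeaklyEtale (MvPolynomial σ G) (X.presheaf.stalk x)) (e : SGA1t.vanishingAt φ x → σ),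
      Function.Injective e ∧
        ∀ i, algebraMap (MvPolynomial σ G) (X.presheaf.stalk x) (MvPolynomial.X (e i)) =
          (X.presheaf.germ ⊤ x trivial).hom (φ i.1) := by
  letI A := X.presheaf.stalk x
  obtain ⟨W, hxW, d, v, e, he, hv, hve⟩ := hD x hx
  obtain ⟨_, ⟨V, hV, rfl⟩, hxV, -⟩ :=
    S.isBasis_affineOpens.exists_subset_of_mem_open (Set.mem_univ (f x)) isOpen_univ
  obtain ⟨_, ⟨W', hW', rfl⟩, hxW', hW'sub⟩ :=
    X.isBasis_affineOpens.exists_subset_of_mem_open (a := x) (u := ((W ⊓ f ⁻¹ᵁ V : X.Opens) : Set X))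
      ⟨hxW, hxV⟩ (W ⊓ f ⁻¹ᵁ V).2
  have hle : W' ≤ W ⊓ f ⁻¹ᵁ V := hW'sub
  have hW'W : W' ≤ W := hle.trans inf_le_left
  have hW'V : W' ≤ f ⁻¹ᵁ V := hle.trans inf_le_right
  have het := KummerSmLib.etale_eval₂ f W v hv hV hW' hW'W hW'V
  set v' : ULift.{u} (Fin d) → Γ(W', ⊤) := fun j => (X.homOfLE hW'W).appTop (v j) with hv'
  let gm : Γ(X, W') →+* A := (X.presheaf.germ W' x hxW').hom
  let γ : Γ(W', ⊤) →+* A := gm.comp (Scheme.Opens.topIso W').hom.hom
  let ψ : MvPolynomial (ULift.{u} (Fin d)) Γ(V, ⊤) →+* Γ(W', ⊤) :=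
    MvPolynomial.eval₂Hom (f.resLE V W' hW'V).appTop.hom v'
  let θ : MvPolynomial (ULift.{u} (Fin d)) Γ(S, V) →+* A :=
    (γ.comp ψ).comp (MvPolynomial.map (Scheme.Opens.topIso V).inv.hom)
  have hθ : letI := θ.toAlgebra; Algebra.WeaklyEtale (MvPolynomial (ULift.{u} (Fin d)) Γ(S, V)) A := by
    letI : Algebra Γ(X, W') A := gm.toAlgebra
    haveI : IsLocalization.AtPrime A (hW'.primeIdealOf ⟨x, hxW'⟩).asIdeal :=
      hW'.isLocalization_stalk ⟨x, hxW'⟩
    let ρ : MvPolynomial (ULift.{u} (Fin d)) Γ(S, V) →+* Γ(X, W') :=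
      ((Scheme.Opens.topIso W').hom.hom.comp ψ).comp (MvPolynomial.map (Scheme.Opens.topIso V).inv.hom)
    have hρ : ρ.Etale := by
      refine RingHom.Etale.stableUnderComposition _ _ (RingHom.Etale.of_bijective ?_)
        (RingHom.Etale.stableUnderComposition _ _ het
          (RingHom.Etale.of_bijective (ConcreteCategory.bijective_of_isIso (Scheme.Opens.topIso W').hom)))
      exact ⟨MvPolynomial.map_injective _ (ConcreteCategory.bijective_of_isIso (Scheme.Opens.topIso V).inv).1,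
        MvPolynomial.map_surjective _ (ConcreteCategory.bijective_of_isIso (Scheme.Opens.topIso V).inv).2⟩
    letI : Algebra (MvPolynomial (ULift.{u} (Fin d)) Γ(S, V)) Γ(X, W') := ρ.toAlgebra
    letI algA : Algebra (MvPolynomial (ULift.{u} (Fin d)) Γ(S, V)) A := θ.toAlgebra
    haveI : IsScalarTower (MvPolynomial (ULift.{u} (Fin d)) Γ(S, V)) Γ(X, W') A :=
      IsScalarTower.of_algebraMap_eq fun _ => rfl
    haveI : Algebra.Etale (MvPolynomial (ULift.{u} (Fin d)) Γ(S, V)) Γ(X, W') := hρ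
    haveI : Algebra.WeaklyEtale Γ(X, W') A :=
      Groth.Agent.WEtNormalLib.weaklyEtale_localization _ _ (hW'.primeIdealOf ⟨x, hxW'⟩).asIdeal.primeCompl
    exact Algebra.WeaklyEtale.trans _ Γ(X, W') A
  let a : SGA1t.vanishingAt φ x → A := fun i => (X.presheaf.germ ⊤ x trivial).hom (φ i.1)
  have ha : ∀ i, θ (MvPolynomial.X (ULift.up (e i))) = a i := by
    intro i
    simp only [θ, γ, gm, ψ, a, RingHom.comp_apply, MvPolynomial.map_X, MvPolynomial.eval₂Hom_X', hv', hve i,
      ← CommRingCat.comp_apply, Scheme.homOfLE_appTop, Scheme.Opens.topIso_inv, Scheme.Opens.topIso_hom,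
      Category.assoc]
    simp only [← Functor.map_comp, ← op_comp]
    exact TopCat.Presheaf.germ_res_apply _ _ _ _ _
  letI := θ.toAlgebra
  exact ⟨ULift.{u} (Fin d), Γ(S, V), inferInstance, θ.toAlgebra, hθ, fun i => ULift.up (e i),
    fun i j h => he (ULift.up.inj h), ha⟩

end KummerConnLib
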