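import Groth.Agent.KummerConnLib.Idem

/-! Connectedness away from coordinate hyperplanes over an arbitrary base ring. -/

set_option autoImplicit false
set_option linter.style.haveILetI false
set_option maxHeartbeats 800000
universe u

open TensorProduct MvPolynomial

namespace KummerConnLib

theorem eq_zero_or_one_of_idem {R : Type u} [CommRing R] [IsLocalRing R] {b : R} (hb : b * b = b) : b = 0 ∨ b = 1 := by
  rcases IsLocalRing.isUnit_or_isUnit_one_sub_self b with h | h
  · exact Or.inr (h.mul_left_cancel (hb.trans (mul_one b).symm))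
  · refine Or.inl (h.mul_left_cancel ?_)
    rw [mul_zero, sub_mul, one_mul, hb, sub_self]

variable {σ : Type u} {G : Type u} [CommRing G]
variable (K : Type u) [CommRing K] [IsLocalRing K] [Algebra (MvPolynomial σ G) K]
  [Algebra.WeaklyEtale (MvPolynomial σ G) K]

/-- A local ring weakly etale over affine space minus coordinate hyperplanes has connected spectrum. -/
theorem connectedSpace {ι : Type*} [Fintype ι] (e : ι → σ) (L : Type u) [CommRing L] [Algebra K L]
    [IsLocalization.Away (∏ i, algebraMap (MvPolynomial σ G) K (X (e i))) L] :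
    ConnectedSpace (PrimeSpectrum L) := by
  classical
  set T : K := ∏ i, algebraMap (MvPolynomial σ G) K (X (e i)) with hTdef
  have hT : T ∈ nonZeroDivisors K := prod_mem fun i _ => algebraMap_X_mem_nonZeroDivisors K (e i)
  have hinj : Function.Injective (algebraMap K L) :=
    IsLocalization.injective L (M := Submonoid.powers T) (Submonoid.powers_le.2 hT)
  haveI : Nontrivial L := hinj.nontrivial
  let π : MvPolynomial σ G →+* MvPolynomial σ (G ⧸ nilradical G) := MvPolynomial.map (Ideal.Quotient.mk _)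
  have hπ : Function.Surjective π := MvPolynomial.map_surjective _ Ideal.Quotient.mk_surjective
  haveI : IsReduced (G ⧸ nilradical G) := (Ideal.isRadical_iff_quotient_reduced _).1 (Ideal.radical_isRadical _)
  letI : Algebra (MvPolynomial σ G) (MvPolynomial σ (G ⧸ nilradical G)) := π.toAlgebra
  let K₀ := MvPolynomial σ (G ⧸ nilradical G) ⊗[MvPolynomial σ G] K
  let q : K →+* K₀ := (Algebra.TensorProduct.includeRight : K →ₐ[MvPolynomial σ G] K₀).toRingHom
  have hq : Function.Surjective q := fun z => by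
    induction z using TensorProduct.induction_on with
    | zero => exact ⟨0, map_zero q⟩
    | tmul a b =>
      obtain ⟨a, rfl⟩ := hπ a
      refine ⟨algebraMap _ K a * b, ?_⟩
      show (1 : MvPolynomial σ (G ⧸ nilradical G)) ⊗ₜ[MvPolynomial σ G] (algebraMap _ K a * b) = π a ⊗ₜ b
      rw [← Algebra.smul_def, ← TensorProduct.smul_tmul, Algebra.smul_def, mul_one]
      rfl
    | add z w hz hw =>
      obtain ⟨z, rfl⟩ := hz
      obtain ⟨w, rfl⟩ := hw
      exact ⟨z + w, map_add q z w⟩
  have hker : ∀ x : K, q x = 0 → IsNilpotent x := fun x hx => by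
    rw [← mem_nilradical, nilradical_eq_sInf]
    refine Ideal.mem_sInf.2 fun {p} hp => ?_
    haveI : p.IsPrime := hp
    let c : MvPolynomial σ G →+* K ⧸ p := (Ideal.Quotient.mk p).comp (algebraMap _ K)
    have hle : RingHom.ker π ≤ RingHom.ker c := fun f hf => by
      have hn : ∀ m, IsNilpotent (coeff m f) := fun m => by
        rw [← mem_nilradical, ← Ideal.Quotient.eq_zero_iff_mem]
        have h := congrArg (coeff m) (RingHom.mem_ker.1 hf)
        rwa [coeff_map, coeff_zero] at h
      exact RingHom.mem_ker.2 ((MvPolynomial.isNilpotent_iff.2 hn).map c).eq_zero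
    let c₀ := RingHom.liftOfSurjective π hπ ⟨c, hle⟩
    letI : Algebra (MvPolynomial σ (G ⧸ nilradical G)) (K ⧸ p) := c₀.toAlgebra
    haveI : IsScalarTower (MvPolynomial σ G) (MvPolynomial σ (G ⧸ nilradical G)) (K ⧸ p) :=
      IsScalarTower.of_algebraMap_eq fun a =>
        (RingHom.liftOfRightInverse_comp_apply π _ (Function.rightInverse_surjInv hπ) ⟨c, hle⟩ a).symm
    let lft : K₀ →ₐ[MvPolynomial σ G] K ⧸ p := Algebra.TensorProduct.lift
      (IsScalarTower.toAlgHom _ (MvPolynomial σ (G ⧸ nilradical G)) (K ⧸ p)) (Ideal.Quotient.mkₐ _ p)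
      (fun _ _ => Commute.all _ _)
    rw [← Ideal.Quotient.eq_zero_iff_mem]
    have h1 : lft (q x) = Ideal.Quotient.mk p x := by
      show lft ((1 : MvPolynomial σ (G ⧸ nilradical G)) ⊗ₜ x) = _
      rw [Algebra.TensorProduct.lift_tmul, map_one, one_mul]
      rfl
    rw [← h1, hx, map_zero]
  haveI : Nontrivial K₀ := ⟨⟨q 1, q 0, fun h => not_isNilpotent_one (hker 1 (h.trans (map_zero q)))⟩⟩
  haveI : IsLocalRing K₀ := IsLocalRing.of_surjective' (R := K) (S := K₀) q hq
  let t₀ : ι → K₀ := fun i => algebraMap (MvPolynomial σ (G ⧸ nilradical G)) K₀ (X (e i))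
  have hqT : q T = ∏ i, t₀ i := by
    rw [hTdef, map_prod]
    refine Finset.prod_congr rfl fun i _ => ?_
    show (1 : MvPolynomial σ (G ⧸ nilradical G)) ⊗ₜ algebraMap (MvPolynomial σ G) K (X (e i)) =
      (X (e i) : MvPolynomial σ (G ⧸ nilradical G)) ⊗ₜ (1 : K)
    rw [Algebra.algebraMap_eq_smul_one, ← TensorProduct.smul_tmul, Algebra.smul_def, mul_one]
    show π (X (e i)) ⊗ₜ[MvPolynomial σ G] (1 : K) = _
    rw [MvPolynomial.map_X]
  let L₀ := Localization.Away (∏ i, t₀ i)
  haveI : IsLocalization.Away (q T) L₀ := by rw [hqT]; infer_instance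
  let qL : L →+* L₀ := IsLocalization.Away.map L L₀ q T
  have hqL : ∀ a, qL (algebraMap K L a) = algebraMap K₀ L₀ (q a) := fun a => IsLocalization.map_eq _ a
  have hinj₀ : Function.Injective (algebraMap K₀ L₀) :=
    IsLocalization.injective L₀ (M := Submonoid.powers (∏ i, t₀ i))
      (Submonoid.powers_le.2 (prod_mem fun i _ => algebraMap_X_mem_nonZeroDivisors K₀ (e i)))
  have key : ∀ ε : L, ε * ε = ε → qL ε = 0 → ε = 0 := fun ε hε h0 => by
    obtain ⟨⟨b, s⟩, hs⟩ := IsLocalization.surj (Submonoid.powers T) ε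
    have hb : q b = 0 := hinj₀ (by
      rw [← hqL, ← show ε * algebraMap K L s = algebraMap K L b from hs, map_mul, h0, zero_mul, map_zero])
    obtain ⟨N, hN⟩ := hker b hb
    have h1 : (ε * algebraMap K L s) ^ (N + 1) = 0 := by
      rw [show ε * algebraMap K L s = algebraMap K L b from hs, ← map_pow, pow_succ, hN, zero_mul, map_zero]
    rw [mul_pow, IsIdempotentElem.pow_succ_eq N hε] at h1
    exact ((IsLocalization.map_units L s).pow (N + 1)).mul_left_eq_zero.1 h1
  have hidem : ∀ ε : L, ε * ε = ε → ε = 0 ∨ ε = 1 := fun ε hε => by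
    obtain ⟨b, hb, hbε⟩ := exists_idem_eq (G := G ⧸ nilradical G) K₀ e L₀ (ε := qL ε) (by rw [← map_mul, hε])
    rcases eq_zero_or_one_of_idem hb with h | h
    · exact Or.inl (key ε hε (by rw [← hbε, h, map_zero]))
    · refine Or.inr (sub_eq_zero.1 (key (1 - ε) (by linear_combination hε) (by
        rw [map_sub, map_one, ← hbε, h, map_one, sub_self]))).symm
  rw [connectedSpace_iff_clopen]
  refine ⟨inferInstance, fun C hC => ?_⟩
  obtain ⟨ε, hε, rfl⟩ := PrimeSpectrum.isClopen_iff.1 hC
  rcases hidem ε hε with rfl | rfl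
  · exact Or.inl (by simp)
  · exact Or.inr (by simp)

end KummerConnLib
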