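import Groth.Agent.KummerConnLib.Kummer

/-! The Kummer algebra is etale away from its branch locus. -/

set_option autoImplicit false
set_option linter.style.haveILetI false
set_option maxHeartbeats 1600000
universe u

open SGA1t

namespace KummerConnLib

variable {R : Type u} [CommRing R] {ι : Type} [Fintype ι] (a : ι → R) (n : ι → ℕ)

theorem newton {B : Type*} [CommRing B] (N : ℕ) (r h : B) (hh : h ^ 2 = 0) :
    (r + h) ^ N = r ^ N + (N : B) * r ^ (N - 1) * h := by
  simpa [Polynomial.derivative_X_pow] using Polynomial.eval_add_of_sq_eq_zero (Polynomial.X ^ N) r h hh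

theorem eq_zero_of_newton {B : Type*} [CommRing B] (N : ℕ) (r h : B) (hr : IsUnit r) (hN : IsUnit (N : B))
    (hh : h ^ 2 = 0) (he : (r + h) ^ N = r ^ N) : h = 0 := by
  rw [newton N r h hh, add_eq_left] at he
  exact (hN.mul (hr.pow _)).mul_right_eq_zero.1 he

/-- Away from the branch locus the Kummer algebra is etale. -/
theorem etale_away (hn : ∀ i, IsUnit ((n i : ℕ) : R)) (L : Type u) [CommRing L] [Algebra (kummer R a n) L]
    [Algebra R L] [IsScalarTower R (kummer R a n) L]
    [IsLocalization.Away (∏ i, root a n i) L] : Algebra.Etale R L := by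
  classical
  haveI : Algebra.FinitePresentation R (kummer R a n) :=
    Algebra.FinitePresentation.quotient ⟨Finset.univ.image fun i => (MvPolynomial.X i : MvPolynomial ι R) ^ n i - MvPolynomial.C (a i),
      by rw [Finset.coe_image, Finset.coe_univ, Set.image_univ]⟩
  haveI : Algebra.FinitePresentation (kummer R a n) L := IsLocalization.Away.finitePresentation (∏ i, root a n i)
  haveI : Algebra.FinitePresentation R L := Algebra.FinitePresentation.trans R (kummer R a n) L
  have htu : ∀ i, IsUnit (algebraMap (kummer R a n) L (root a n i)) := fun i => by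
    have h := IsLocalization.Away.algebraMap_isUnit (S := L) (∏ i, root a n i)
    rw [← Finset.mul_prod_erase Finset.univ (root a n) (Finset.mem_univ i), map_mul] at h
    exact isUnit_of_mul_isUnit_left h
  have hT : ∀ {B : Type u} [CommRing B] (f : kummer R a n →+* B), (∀ i, IsUnit (f (root a n i))) →
      ∀ y : Submonoid.powers (∏ i, root a n i), IsUnit (f y) := by
    rintro B _ f h ⟨_, m, rfl⟩
    rw [map_pow, map_prod]
    exact (IsUnit.prod_univ_iff.2 h).pow m
  suffices h : Algebra.FormallyEtale R L from ⟨h, inferInstance⟩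
  rw [Algebra.FormallyEtale.iff_comp_bijective]
  intro B _ _ I hI
  have hsq : ∀ b ∈ I, b ^ 2 = 0 := fun b hb => by
    rw [← Ideal.mem_bot, ← hI]; exact Ideal.pow_mem_pow hb 2
  have hBn : ∀ i, IsUnit ((n i : ℕ) : B) := fun i => by
    have h := (hn i).map (algebraMap R B)
    rwa [map_natCast] at h
  let π := Ideal.Quotient.mk I
  have hu : ∀ b : B, IsUnit (π b) → IsUnit b := fun b hb => by
    obtain ⟨c, hc⟩ := hb.exists_right_inv
    obtain ⟨c, rfl⟩ := Ideal.Quotient.mk_surjective c
    rw [← map_mul, ← sub_eq_zero, ← map_one π, ← map_sub, Ideal.Quotient.eq_zero_iff_mem] at hc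
    have h : IsUnit (b * c) := by
      rw [← sub_add_cancel (b * c) 1]
      exact IsNilpotent.isUnit_add_one ⟨2, hsq _ hc⟩
    exact isUnit_of_mul_isUnit_left h
  constructor
  · intro g₁ g₂ h
    let f : (L →ₐ[R] B) → kummer R a n →+* B := fun g => g.toRingHom.comp (algebraMap (kummer R a n) L)
    have hf : f g₁ = f g₂ := by
      refine kum_hom_ext a n (fun c => ?_) (fun i => ?_)
      · show g₁ (algebraMap _ L (algebraMap R _ c)) = g₂ (algebraMap _ L (algebraMap R _ c))
        rw [← IsScalarTower.algebraMap_apply, g₁.commutes, g₂.commutes]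
      · have hd : g₁ (algebraMap _ L (root a n i)) - g₂ (algebraMap _ L (root a n i)) ∈ I := by
          rw [← Ideal.Quotient.eq]
          exact congrArg (fun q : L →ₐ[R] B ⧸ I => q (algebraMap _ L (root a n i))) h
        have hp : ∀ g : L →ₐ[R] B, (g (algebraMap _ L (root a n i))) ^ n i = algebraMap R B (a i) := fun g => by
          rw [← map_pow, ← map_pow, root_pow, ← IsScalarTower.algebraMap_apply, g.commutes]
        refine sub_eq_zero.1 (eq_zero_of_newton (n i) (g₂ (algebraMap _ L (root a n i))) _
          ((htu i).map g₂) (hBn i) (hsq _ hd) ?_)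
        show (g₂ (algebraMap _ L (root a n i)) + (g₁ (algebraMap _ L (root a n i)) - g₂ (algebraMap _ L (root a n i)))) ^ n i = g₂ (algebraMap _ L (root a n i)) ^ n i
        rw [add_sub_cancel, hp g₁, hp g₂]
    exact AlgHom.coe_ringHom_injective (IsLocalization.ringHom_ext (Submonoid.powers (∏ i, root a n i)) hf)
  · intro g
    have hr : ∀ i, ∃ r : B, IsUnit r ∧ r ^ n i = algebraMap R B (a i) ∧
        π r = g (algebraMap _ L (root a n i)) := fun i => by
      obtain ⟨r₀, hr₀⟩ := Ideal.Quotient.mk_surjective (g (algebraMap _ L (root a n i)))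
      have h0 : IsUnit r₀ := hu _ (by
        rw [show π r₀ = _ from hr₀]; exact (htu i).map g)
      obtain ⟨d, hd⟩ := ((hBn i).mul (h0.pow (n i - 1))).exists_right_inv
      have hδ : r₀ ^ n i - algebraMap R B (a i) ∈ I := by
        rw [← Ideal.Quotient.eq, map_pow, hr₀, ← map_pow, ← map_pow, root_pow, ← IsScalarTower.algebraMap_apply,
          g.commutes]
        rfl
      have hh : -((r₀ ^ n i - algebraMap R B (a i)) * d) ∈ I := neg_mem (Ideal.mul_mem_right _ _ hδ)
      refine ⟨r₀ + -((r₀ ^ n i - algebraMap R B (a i)) * d), hu _ ?_, ?_, ?_⟩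
      · rw [map_add, Ideal.Quotient.eq_zero_iff_mem.2 hh, add_zero]; exact h0.map π
      · rw [newton _ _ _ (hsq _ hh)]
        linear_combination (algebraMap R B (a i) - r₀ ^ n i) * hd
      · rw [map_add, Ideal.Quotient.eq_zero_iff_mem.2 hh, add_zero]; exact hr₀
    choose r hru hrp hrg using hr
    let f : kummer R a n →+* B := kumLift a n (algebraMap R B) r hrp
    have hfu : ∀ y : Submonoid.powers (∏ i, root a n i), IsUnit (f y) := hT f fun i => by
      rw [kumLift_root]; exact hru i
    let lf : L →+* B := IsLocalization.lift hfu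
    have hlf : ∀ c, lf (algebraMap (kummer R a n) L c) = f c := fun c => IsLocalization.lift_eq hfu c
    refine ⟨{ toRingHom := lf, commutes' := fun c => ?_ }, ?_⟩
    · show lf (algebraMap R L c) = _
      rw [IsScalarTower.algebraMap_apply R (kummer R a n) L, hlf, kumLift_algebraMap]
    · refine AlgHom.coe_ringHom_injective (IsLocalization.ringHom_ext (Submonoid.powers (∏ i, root a n i)) ?_)
      refine kum_hom_ext a n (fun c => ?_) (fun i => ?_)
      · show π (lf (algebraMap _ L (algebraMap R _ c))) = g (algebraMap _ L (algebraMap R _ c))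
        rw [hlf, kumLift_algebraMap, ← IsScalarTower.algebraMap_apply, g.commutes]
        rfl
      · show π (lf (algebraMap _ L (root a n i))) = g (algebraMap _ L (root a n i))
        rw [hlf, kumLift_root, hrg]

end KummerConnLib
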