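import Groth.Agent.WEtReducedLib.Basic

/-! Connectedness of the complement of coordinate hyperplanes in local rings weakly etale over polynomial rings. -/

set_option autoImplicit false
set_option linter.style.haveILetI false
set_option maxHeartbeats 800000
universe u

open TensorProduct MvPolynomial

namespace KummerConnLib

variable {σ : Type u} {G : Type u} [CommRing G]

/-- Modulo a variable: killing it changes a polynomial by a multiple of the variable. -/
theorem sub_kill_mem (s : σ) (f : MvPolynomial σ G) [DecidableEq σ] :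
    f - aeval (fun j => if j = s then (0 : MvPolynomial σ G) else X j) f ∈ Ideal.span {(X s : MvPolynomial σ G)} := by
  induction f using MvPolynomial.induction_on with
  | C a => simp
  | add p q hp hq =>
    rw [map_add, add_sub_add_comm]
    exact add_mem hp hq
  | mul_X p j hp =>
    rw [map_mul, aeval_X]
    by_cases hj : j = s
    · rw [if_pos hj, hj, mul_zero, sub_zero]
      exact Ideal.mem_span_singleton.2 ⟨p, mul_comm _ _⟩
    · rw [if_neg hj, ← sub_mul]
      exact Ideal.mul_mem_right _ _ hp

instance instReducedQuotX [IsReduced G] (s : σ) :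
    IsReduced (MvPolynomial σ G ⧸ Ideal.span {(X s : MvPolynomial σ G)}) := by
  classical
  refine (Ideal.isRadical_iff_quotient_reduced _).1 fun f hf => ?_
  obtain ⟨n, hn⟩ := hf
  let φ : MvPolynomial σ G →ₐ[G] MvPolynomial σ G := aeval fun j => if j = s then 0 else X j
  obtain ⟨g, hg⟩ := Ideal.mem_span_singleton.1 hn
  have h0 : φ f = 0 := by
    refine IsReduced.eq_zero _ ⟨n, ?_⟩
    rw [← map_pow, hg, map_mul]
    simp [φ]
  have h := sub_kill_mem s f
  rwa [show aeval (fun j => if j = s then (0 : MvPolynomial σ G) else X j) f = 0 from h0, sub_zero] at h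

theorem X_mem_nonZeroDivisors (s : σ) : (X s : MvPolynomial σ G) ∈ nonZeroDivisors (MvPolynomial σ G) :=
  mem_nonZeroDivisors_iff_right.2 fun p hp => by
    ext m
    have h := coeff_mul_X m s p
    rw [hp, coeff_zero] at h
    rw [coeff_zero, h]

variable (K : Type u) [CommRing K] [Algebra (MvPolynomial σ G) K] [Algebra.WeaklyEtale (MvPolynomial σ G) K]

/-- The image of a variable is regular. -/
theorem algebraMap_X_mem_nonZeroDivisors (s : σ) :
    algebraMap (MvPolynomial σ G) K (X s) ∈ nonZeroDivisors K := by
  have h : IsSMulRegular K (X s : MvPolynomial σ G) :=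
    Module.Flat.isSMulRegular_of_nonZeroDivisors (X_mem_nonZeroDivisors s)
  refine mem_nonZeroDivisors_iff_right.2 fun x hx => h ?_
  simp only [Algebra.smul_def, mul_zero]
  rwa [mul_comm]

variable [IsReduced G]

/-- The image of a variable generates a radical ideal. -/
theorem dvd_of_dvd_sq (s : σ) {b : K} (h : algebraMap (MvPolynomial σ G) K (X s) ∣ b * b) :
    algebraMap (MvPolynomial σ G) K (X s) ∣ b := by
  let I : Ideal (MvPolynomial σ G) := Ideal.span {X s}
  haveI : IsReduced ((MvPolynomial σ G ⧸ I) ⊗[MvPolynomial σ G] K) :=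
    Groth.Agent.WEtReducedLib.isReduced_of_weaklyEtale (MvPolynomial σ G ⧸ I) ((MvPolynomial σ G ⧸ I) ⊗[MvPolynomial σ G] K)
  haveI : IsReduced (K ⧸ I.map (algebraMap (MvPolynomial σ G) K)) :=
    isReduced_of_injective (Algebra.TensorProduct.quotIdealMapEquivQuotTensor K I).toRingHom
      (Algebra.TensorProduct.quotIdealMapEquivQuotTensor K I).injective
  have hI : I.map (algebraMap (MvPolynomial σ G) K) = Ideal.span {algebraMap (MvPolynomial σ G) K (X s)} := by
    rw [Ideal.map_span, Set.image_singleton]
  rw [← Ideal.mem_span_singleton, ← hI] at h ⊢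
  rw [← Ideal.Quotient.eq_zero_iff_mem] at h ⊢
  exact IsReduced.eq_zero _ ⟨2, by rw [pow_two, ← map_mul, h]⟩

variable {ι : Type*} [Fintype ι] (e : ι → σ)

/-- Idempotents away from coordinate hyperplanes extend. -/
theorem exists_idem_eq (L : Type u) [CommRing L] [Algebra K L]
    [IsLocalization.Away (∏ i, algebraMap (MvPolynomial σ G) K (X (e i))) L]
    {ε : L} (hε : ε * ε = ε) : ∃ b : K, b * b = b ∧ algebraMap K L b = ε := by
  classical
  set t : ι → K := fun i => algebraMap (MvPolynomial σ G) K (X (e i)) with ht
  have htu : ∀ i, IsUnit (algebraMap K L (t i)) := fun i => by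
    have h := IsLocalization.Away.algebraMap_isUnit (S := L) (∏ i, t i)
    rw [← Finset.mul_prod_erase Finset.univ t (Finset.mem_univ i), map_mul] at h
    exact isUnit_of_mul_isUnit_left h
  have hinj : Function.Injective (algebraMap K L) := by
    refine IsLocalization.injective L (M := Submonoid.powers (∏ i, t i)) ?_
    rintro _ ⟨N, rfl⟩
    exact pow_mem (prod_mem fun i _ => algebraMap_X_mem_nonZeroDivisors K (e i)) N
  have key : ∀ (M : ℕ) (N : ι → ℕ), ∑ i, N i = M →
      ∀ b : K, algebraMap K L b = (∏ i, algebraMap K L (t i) ^ N i) * ε → ∃ b : K, algebraMap K L b = ε := by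
    intro M
    induction M using Nat.strong_induction_on with
    | _ M ih =>
      intro N hN b hb
      by_cases h0 : ∀ i, N i = 0
      · exact ⟨b, by simpa [h0] using hb⟩
      push Not at h0
      obtain ⟨i, hi⟩ := h0
      let T : K := ∏ j, t j ^ N j
      have hT : algebraMap K L T = ∏ j, algebraMap K L (t j) ^ N j := by simp [T]
      have hbb : b * b = T * b := hinj (by
        rw [map_mul, map_mul, hT, hb]
        linear_combination ((∏ j, algebraMap K L (t j) ^ N j) ^ 2) * hε)
      have hdvd : t i ∣ b * b := by
        rw [hbb]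
        exact Dvd.dvd.mul_right ((dvd_pow_self _ hi).trans (Finset.dvd_prod_of_mem (fun j => t j ^ N j) (Finset.mem_univ i))) _
      obtain ⟨c, hc⟩ := dvd_of_dvd_sq K (e i) hdvd
      let N' := Function.update N i (N i - 1)
      have hsum : ∑ j, N' j < M := by
        rw [← hN]
        refine Finset.sum_lt_sum (fun j _ => ?_) ⟨i, Finset.mem_univ _, ?_⟩
        · by_cases hj : j = i
          · subst hj; simp [N']
          · simp [N', hj]
        · simp [N']; omega
      refine ih _ hsum N' rfl c ((htu i).mul_left_cancel ?_)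
      rw [← map_mul, show t i * c = b from hc.symm, hb, ← mul_assoc]
      congr 1
      rw [← Finset.mul_prod_erase Finset.univ _ (Finset.mem_univ i),
        ← Finset.mul_prod_erase Finset.univ (fun j => algebraMap K L (t j) ^ N' j) (Finset.mem_univ i), ← mul_assoc]
      congr 1
      · simp only [N', Function.update_self]
        rw [← pow_succ', Nat.sub_add_cancel (Nat.one_le_iff_ne_zero.2 hi)]
      · refine Finset.prod_congr rfl fun j hj => ?_
        rw [show N' j = N j from Function.update_of_ne (Finset.ne_of_mem_erase hj) _ _]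
  obtain ⟨⟨b₀, s⟩, hs⟩ := IsLocalization.surj (Submonoid.powers (∏ i, t i)) ε
  obtain ⟨_, m, rfl⟩ := s
  obtain ⟨b, hb⟩ := key _ (fun _ => m) rfl b₀ (by
    rw [← hs, mul_comm]
    simp [map_prod, Finset.prod_pow])
  exact ⟨b, hinj (by rw [map_mul, hb, hε]), hb⟩

end KummerConnLib
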