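import Groth.Agent.KummerConnLib.Conn
import Groth.Prelude.Def_SGA1t

/-! Kummer algebras over rings weakly etale over polynomial rings. -/

set_option autoImplicit false
set_option linter.style.haveILetI false
set_option maxHeartbeats 1600000
set_option synthInstance.maxHeartbeats 200000
universe u

open TensorProduct MvPolynomial SGA1t

namespace KummerConnLib

noncomputable section

section General

variable {R : Type u} [CommRing R] {ι : Type} (a : ι → R) (n : ι → ℕ)

/-- The generators of the Kummer algebra. -/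
abbrev root (i : ι) : kummer R a n := Ideal.Quotient.mk _ (X i)

theorem root_pow (i : ι) : root a n i ^ n i = algebraMap R (kummer R a n) (a i) := by
  rw [← map_pow, ← sub_eq_zero]
  show Ideal.Quotient.mk _ (X i ^ n i) - Ideal.Quotient.mk _ (C (a i)) = 0
  rw [← map_sub, Ideal.Quotient.eq_zero_iff_mem]
  exact Ideal.subset_span ⟨i, rfl⟩

/-- Maps out of the Kummer algebra. -/
def kumLift {B : Type*} [CommRing B] (f : R →+* B) (r : ι → B) (h : ∀ i, r i ^ n i = f (a i)) :
    kummer R a n →+* B :=
  Ideal.Quotient.lift _ (eval₂Hom f r) fun g hg => by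
    have hle : Ideal.span (Set.range fun i => (X i : MvPolynomial ι R) ^ n i - C (a i)) ≤
        RingHom.ker (eval₂Hom f r) := by
      rw [Ideal.span_le]
      rintro _ ⟨i, rfl⟩
      simp [h]
    exact hle hg

theorem kumLift_algebraMap {B : Type*} [CommRing B] (f : R →+* B) (r : ι → B) (h : ∀ i, r i ^ n i = f (a i))
    (x : R) : kumLift a n f r h (algebraMap R (kummer R a n) x) = f x :=
  eval₂Hom_C f r x

theorem kumLift_root {B : Type*} [CommRing B] (f : R →+* B) (r : ι → B) (h : ∀ i, r i ^ n i = f (a i))
    (i : ι) : kumLift a n f r h (root a n i) = r i :=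
  eval₂Hom_X' f r i

theorem kum_hom_ext {B : Type*} [CommRing B] {f g : kummer R a n →+* B}
    (h₁ : ∀ x, f (algebraMap R (kummer R a n) x) = g (algebraMap R (kummer R a n) x))
    (h₂ : ∀ i, f (root a n i) = g (root a n i)) : f = g :=
  Ideal.Quotient.ringHom_ext (MvPolynomial.ringHom_ext h₁ h₂)

variable (hn : ∀ i, 1 ≤ n i)

include hn in
theorem isIntegral_kummer : Algebra.IsIntegral R (kummer R a n) := by
  refine ⟨fun x => ?_⟩
  obtain ⟨p, rfl⟩ := Ideal.Quotient.mk_surjective x
  induction p using MvPolynomial.induction_on with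
  | C c => exact isIntegral_algebraMap
  | add p q hp hq => rw [map_add]; exact hp.add hq
  | mul_X p i hp =>
    rw [map_mul]
    refine hp.mul (IsIntegral.of_pow (hn i) ?_)
    show IsIntegral R (root a n i ^ n i)
    rw [root_pow]
    exact isIntegral_algebraMap

include hn in
/-- The Kummer algebra of non-units over a local ring is local. -/
theorem isLocalRing_kummer [IsLocalRing R] (ha : ∀ i, a i ∈ IsLocalRing.maximalIdeal R) :
    IsLocalRing (kummer R a n) := by
  haveI := isIntegral_kummer a n hn
  let aug : kummer R a n →+* IsLocalRing.ResidueField R := kumLift a n (IsLocalRing.residue R) (fun _ => 0) fun i => by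
    rw [zero_pow (by have := hn i; omega), ((IsLocalRing.residue_eq_zero_iff _).2 (ha i))]
  have hmem : ∀ x : kummer R a n, ∃ r : R, x - algebraMap R _ r ∈ Ideal.span (Set.range (root a n)) := fun x => by
    obtain ⟨p, rfl⟩ := Ideal.Quotient.mk_surjective x
    induction p using MvPolynomial.induction_on with
    | C c => exact ⟨c, by rw [show Ideal.Quotient.mk _ (C c : MvPolynomial ι R) = algebraMap R (kummer R a n) c from rfl, sub_self]; exact zero_mem _⟩
    | add p q hp hq =>
      obtain ⟨r, hr⟩ := hp
      obtain ⟨s, hs⟩ := hq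
      exact ⟨r + s, by rw [map_add, map_add, add_sub_add_comm]; exact add_mem hr hs⟩
    | mul_X p i hp =>
      exact ⟨0, by rw [map_zero, sub_zero, map_mul]; exact Ideal.mul_mem_left _ _ (Ideal.subset_span ⟨i, rfl⟩)⟩
  haveI : Nontrivial (kummer R a n) := aug.domain_nontrivial
  refine IsLocalRing.of_unique_max_ideal ⟨RingHom.ker aug, ?_, fun Q hQ => ?_⟩
  · refine RingHom.ker_isMaximal_of_surjective aug fun y => ?_
    obtain ⟨r, rfl⟩ := IsLocalRing.residue_surjective y
    exact ⟨algebraMap R _ r, kumLift_algebraMap ..⟩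
  haveI := hQ
  have hc : Q.comap (algebraMap R (kummer R a n)) = IsLocalRing.maximalIdeal R :=
    IsLocalRing.eq_maximalIdeal (Ideal.isMaximal_comap_of_isIntegral_of_isMaximal Q)
  have hT : ∀ i, root a n i ∈ Q := fun i => hQ.isPrime.mem_of_pow_mem (n i) (by
    rw [root_pow, ← Ideal.mem_comap, hc]; exact ha i)
  symm
  refine ((RingHom.ker_isMaximal_of_surjective aug fun y => ?_).eq_of_le hQ.ne_top fun x hx => ?_)
  · obtain ⟨r, rfl⟩ := IsLocalRing.residue_surjective y
    exact ⟨algebraMap R _ r, kumLift_algebraMap ..⟩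
  obtain ⟨r, hr⟩ := hmem x
  have h0 : Ideal.span (Set.range (root a n)) ≤ RingHom.ker aug := by
    rw [Ideal.span_le]
    rintro _ ⟨i, rfl⟩
    exact kumLift_root ..
  have hr0 : r ∈ IsLocalRing.maximalIdeal R := by
    rw [← IsLocalRing.residue_eq_zero_iff, ← kumLift_algebraMap a n (IsLocalRing.residue R) (fun _ => 0)]
    have h := h0 hr
    rw [RingHom.mem_ker, map_sub, RingHom.mem_ker.1 hx, zero_sub, neg_eq_zero] at h
    exact h
  rw [← sub_add_cancel x (algebraMap R _ r)]
  refine add_mem ((Ideal.span_le.2 ?_) hr) (by rw [← Ideal.mem_comap, hc]; exact hr0)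
  rintro _ ⟨i, rfl⟩
  exact hT i

end General

variable {σ : Type u} {G : Type u} [CommRing G] {R : Type u} [CommRing R] [Algebra (MvPolynomial σ G) R]
  {ι : Type} (e : ι → σ) (he : Function.Injective e) (n : ι → ℕ) (a : ι → R)
  (ha : ∀ i, algebraMap (MvPolynomial σ G) R (X (e i)) = a i)

/-- A copy of the polynomial ring. -/
def Dst (σ G : Type u) [CommRing G] : Type u := MvPolynomial σ G

instance : CommRing (Dst σ G) := inferInstanceAs (CommRing (MvPolynomial σ G))

/-- Raising the chosen variables to the given powers. -/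
def powHom : MvPolynomial σ G →+* MvPolynomial σ G :=
  eval₂Hom C fun s => X s ^ Function.extend e n (fun _ => 1) s

/-- The variables of the Kummer algebra as functions on affine space. -/
def kumHom : MvPolynomial σ G →+* kummer R a n :=
  eval₂Hom (((algebraMap R (kummer R a n)).comp (algebraMap (MvPolynomial σ G) R)).comp C)
    (Function.extend e (root a n) fun s => algebraMap R (kummer R a n) (algebraMap (MvPolynomial σ G) R (X s)))

theorem kumHom_X (he : Function.Injective e) (i : ι) : kumHom e n a (X (e i) : MvPolynomial σ G) = root a n i :=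
  (eval₂Hom_X' _ _ _).trans (he.extend_apply _ _ i)

include he ha in
/-- The Kummer algebra is weakly etale over affine space via the roots. -/
theorem weaklyEtale_kummer [Algebra.WeaklyEtale (MvPolynomial σ G) R] :
    letI := (kumHom (G := G) e n a).toAlgebra
    Algebra.WeaklyEtale (MvPolynomial σ G) (kummer R a n) := by
  classical
  letI algQ : Algebra (MvPolynomial σ G) (Dst σ G) := RingHom.toAlgebra (S := Dst σ G) (powHom e n)
  letI algQK : Algebra (Dst σ G) (kummer R a n) := RingHom.toAlgebra (R := Dst σ G) (kumHom e n a)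
  let P := MvPolynomial σ G
  have hcomp : ∀ p : P, kumHom e n a (powHom e n p) = algebraMap R (kummer R a n) (algebraMap P R p) := by
    intro p
    suffices h : (kumHom e n a).comp (powHom e n) = (algebraMap R (kummer R a n)).comp (algebraMap P R) from
      congrArg (fun f : P →+* kummer R a n => f p) h
    refine MvPolynomial.ringHom_ext (fun c => ?_) (fun s => ?_)
    · simp [kumHom, powHom, P]
    · simp only [RingHom.comp_apply, powHom, eval₂Hom_X', map_pow]
      by_cases hs : ∃ i, e i = s
      · obtain ⟨i, rfl⟩ := hs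
        rw [kumHom_X e n a he, he.extend_apply, root_pow, ha]
      · rw [Function.extend_apply' _ _ _ hs, pow_one]
        exact (eval₂Hom_X' _ _ _).trans (Function.extend_apply' _ _ _ hs)
  haveI : IsScalarTower P (Dst σ G) (kummer R a n) := IsScalarTower.of_algebraMap_eq fun p => (hcomp p).symm
  let fwd : Dst σ G ⊗[P] R →ₐ[Dst σ G] kummer R a n := Algebra.TensorProduct.lift (Algebra.ofId _ _)
    (IsScalarTower.toAlgHom P R (kummer R a n)) (fun _ _ => Commute.all _ _)
  let inR : R →+* Dst σ G ⊗[P] R := (Algebra.TensorProduct.includeRight : R →ₐ[P] Dst σ G ⊗[P] R).toRingHom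
  let tQ : σ → Dst σ G := fun s => (X s : MvPolynomial σ G)
  let bwd : kummer R a n →+* Dst σ G ⊗[P] R := kumLift a n inR (fun i => tQ (e i) ⊗ₜ 1) fun i => by
    rw [Algebra.TensorProduct.tmul_pow, one_pow]
    show (tQ (e i) ^ n i) ⊗ₜ[P] (1 : R) = (1 : Dst σ G) ⊗ₜ[P] a i
    rw [← ha, Algebra.algebraMap_eq_smul_one, ← TensorProduct.smul_tmul, Algebra.smul_def, mul_one]
    congr 1
    show (X (e i) ^ n i : MvPolynomial σ G) = powHom e n (X (e i))
    rw [powHom, eval₂Hom_X', he.extend_apply]
  have h1 : ∀ x, fwd (bwd x) = x := fun x => by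
    suffices h : fwd.toRingHom.comp bwd = RingHom.id _ from congrArg (fun f : kummer R a n →+* kummer R a n => f x) h
    refine kum_hom_ext a n (fun r => ?_) (fun i => ?_)
    · show fwd (bwd _) = _
      rw [kumLift_algebraMap]
      show fwd ((1 : Dst σ G) ⊗ₜ r) = _
      rw [Algebra.TensorProduct.lift_tmul, map_one, one_mul]
      rfl
    · show fwd (bwd _) = _
      rw [kumLift_root, Algebra.TensorProduct.lift_tmul, map_one, mul_one]
      exact kumHom_X e n a he i
  have h2 : ∀ q : Dst σ G, bwd (algebraMap (Dst σ G) (kummer R a n) q) = q ⊗ₜ 1 := fun q => by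
    let l : MvPolynomial σ G →+* Dst σ G ⊗[P] R :=
      (Algebra.TensorProduct.includeLeftRingHom : Dst σ G →+* Dst σ G ⊗[P] R)
    suffices h : bwd.comp (kumHom e n a) = l from congrArg (fun f : P →+* Dst σ G ⊗[P] R => f q) h
    refine MvPolynomial.ringHom_ext (fun c => ?_) (fun s => ?_)
    · show bwd (kumHom e n a (C c)) = _
      rw [kumHom, eval₂Hom_C]
      show bwd (algebraMap R _ (algebraMap P R (C c))) = _
      rw [kumLift_algebraMap]
      show (1 : Dst σ G) ⊗ₜ[P] algebraMap P R (C c) = _
      rw [Algebra.algebraMap_eq_smul_one, ← TensorProduct.smul_tmul, Algebra.smul_def, mul_one]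
      rw [show algebraMap P (Dst σ G) (C c) = (C c : MvPolynomial σ G) from eval₂Hom_C _ _ _]
      rfl
    · show bwd (kumHom e n a (X s)) = tQ s ⊗ₜ 1
      by_cases hs : ∃ i, e i = s
      · obtain ⟨i, rfl⟩ := hs
        rw [kumHom_X e n a he, kumLift_root]
      · rw [kumHom, eval₂Hom_X', Function.extend_apply' _ _ _ hs, kumLift_algebraMap]
        show (1 : Dst σ G) ⊗ₜ[P] algebraMap P R (X s) = _
        rw [Algebra.algebraMap_eq_smul_one, ← TensorProduct.smul_tmul, Algebra.smul_def, mul_one]
        rw [show algebraMap P (Dst σ G) (X s) = tQ s from (eval₂Hom_X' _ _ _).trans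
          (by rw [Function.extend_apply' _ _ _ hs, pow_one])]
  have h3 : ∀ z, bwd (fwd z) = z := fun z => by
    induction z using TensorProduct.induction_on with
    | zero => simp
    | tmul q r =>
      rw [Algebra.TensorProduct.lift_tmul, map_mul, Algebra.ofId_apply, h2]
      show q ⊗ₜ[P] (1 : R) * bwd (algebraMap R _ r) = _
      rw [kumLift_algebraMap]
      show q ⊗ₜ[P] (1 : R) * ((1 : Dst σ G) ⊗ₜ[P] r) = _
      rw [Algebra.TensorProduct.tmul_mul_tmul, mul_one, one_mul]
    | add z w hz hw => rw [map_add, map_add, hz, hw]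
  letI algTK : Algebra (Dst σ G ⊗[P] R) (kummer R a n) := fwd.toRingHom.toAlgebra
  haveI : IsScalarTower (Dst σ G) (Dst σ G ⊗[P] R) (kummer R a n) :=
    IsScalarTower.of_algebraMap_eq fun q => (fwd.commutes q).symm
  haveI : Algebra.Etale (Dst σ G ⊗[P] R) (kummer R a n) :=
    RingHom.etale_algebraMap.1 (RingHom.Etale.of_bijective
      ⟨Function.LeftInverse.injective h3, Function.RightInverse.surjective h1⟩)
  exact Algebra.WeaklyEtale.trans (Dst σ G) (Dst σ G ⊗[P] R) (kummer R a n)

end

end KummerConnLib
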