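import Groth.Agent.KummerConnLib.Chart
import Groth.Agent.PrincipalCoverLib.Kummer
import Groth.Agent.UnramEq.Basic
import Groth.Prelude.Def_PiSp

/-! Kummer covers of the complement of a relative normal crossings divisor. -/

set_option autoImplicit false
set_option linter.style.haveILetI false
set_option backward.isDefEq.respectTransparency false
set_option maxHeartbeats 1000000
universe u

open CategoryTheory AlgebraicGeometry SGA1t

namespace KummerConnLib

variable {X : Scheme.{u}} {r : ℕ} (φ : Fin r → Γ(X, ⊤)) (x : X)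
  (R : Type u) [CommRing R] [IsLocalRing R] (g : X.presheaf.stalk x →+* R) [IsLocalHom g]
  (m : Spec (CommRingCat.of R) ⟶ X) (hm : m = Spec.map (CommRingCat.ofHom g) ≫ X.fromSpecStalk x)

include hm in
omit [IsLocalRing R] [IsLocalHom g] in
theorem mem_basicOpen_pull (a : Γ(X, ⊤)) (p : Spec (CommRingCat.of R)) :
    p ∈ (Spec (CommRingCat.of R)).basicOpen (m.appTop a) ↔ g ((X.presheaf.germ ⊤ x trivial).hom a) ∉ p.asIdeal := by
  have h : m.appTop a = (Scheme.ΓSpecIso (CommRingCat.of R)).inv (g ((X.presheaf.germ ⊤ x trivial).hom a)) := by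
    subst hm
    rw [Scheme.Hom.comp_appTop, Scheme.fromSpecStalk_appTop]
    simp only [homOfLE_refl, op_id, CategoryTheory.Functor.map_id, Category.comp_id]
    simp only [← CommRingCat.comp_apply, Category.assoc]
    erw [← Scheme.ΓSpecIso_inv_naturality (CommRingCat.ofHom g)]
    rfl
  rw [h, basicOpen_eq_of_affine]
  exact PrimeSpectrum.mem_basicOpen _ _

include hm in
/-- The complement of the pulled back divisor only sees the vanishing equations. -/
theorem mem_compl_pull (p : Spec (CommRingCat.of R)) :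
    p ∈ SGA1t.compl (fun i => m.appTop (φ i)) ↔
      ∀ i : SGA1t.vanishingAt φ x, g ((X.presheaf.germ ⊤ x trivial).hom (φ i.1)) ∉ p.asIdeal := by
  have h0 : p ∈ SGA1t.compl (fun i => m.appTop (φ i)) ↔ ∀ i, p ∈ (Spec (CommRingCat.of R)).basicOpen (m.appTop (φ i)) := by
    show p ∈ (Spec (CommRingCat.of R)).basicOpen (∏ i, m.appTop (φ i)) ↔ _
    simp only [Scheme.mem_basicOpen_top, map_prod, IsUnit.prod_iff, Finset.mem_univ, true_implies]
  simp only [h0, mem_basicOpen_pull x R g m hm]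
  refine ⟨fun h i => h i.1, fun h i => ?_⟩
  by_cases hi : x ∈ X.basicOpen (φ i)
  · rw [Scheme.mem_basicOpen_top] at hi
    exact fun hp => p.isPrime.ne_top (Ideal.eq_top_of_isUnit_mem _ hp (hi.map g))
  · exact h ⟨i, hi⟩

omit [IsLocalHom g] in
/-- The vanishing equations lie in the maximal ideal. -/
theorem map_mem_maximalIdeal [IsLocalHom g] (i : SGA1t.vanishingAt φ x) :
    g ((X.presheaf.germ ⊤ x trivial).hom (φ i.1)) ∈ IsLocalRing.maximalIdeal R := by
  rw [IsLocalRing.mem_maximalIdeal, mem_nonunits_iff]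
  intro h
  exact i.2 (by rw [Scheme.mem_basicOpen_top]; exact (isUnit_of_map_unit g _ h))

instance : Finite (SGA1t.vanishingAt φ x) := inferInstanceAs (Finite {i : Fin r // x ∉ X.basicOpen (φ i)})

include hm in
/-- The Kummer cover of the complement is connected. -/
theorem connectedSpace_preimage {σ G : Type u} [CommRing G] [Algebra (MvPolynomial σ G) R]
    [Algebra.WeaklyEtale (MvPolynomial σ G) R] (e : SGA1t.vanishingAt φ x → σ) (he : Function.Injective e)
    (a : SGA1t.vanishingAt φ x → R) (ha : ∀ i, a i = g ((X.presheaf.germ ⊤ x trivial).hom (φ i.1)))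
    (hae : ∀ i, algebraMap (MvPolynomial σ G) R (MvPolynomial.X (e i)) = a i)
    (n : SGA1t.vanishingAt φ x → ℕ) (hn : ∀ i, 1 ≤ n i) :
    ConnectedSpace ↥(Spec.map (CommRingCat.ofHom (algebraMap R (SGA1t.kummer R a n))) ⁻¹ᵁ
      SGA1t.compl (fun i => m.appTop (φ i))) := by
  classical
  letI := Fintype.ofFinite (SGA1t.vanishingAt φ x)
  haveI : IsLocalRing (SGA1t.kummer R a n) := isLocalRing_kummer a n hn fun i => by
    rw [ha]; exact map_mem_maximalIdeal φ x R g i
  letI := (kumHom (G := G) e n a).toAlgebra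
  haveI : Algebra.WeaklyEtale (MvPolynomial σ G) (SGA1t.kummer R a n) := weaklyEtale_kummer e he n a hae
  let T : SGA1t.kummer R a n := ∏ i, algebraMap (MvPolynomial σ G) (SGA1t.kummer R a n) (MvPolynomial.X (e i))
  let L := Localization.Away T
  haveI := connectedSpace (G := G) (SGA1t.kummer R a n) e L
  have hc := isConnected_range (PrimeSpectrum.continuous_comap (algebraMap (SGA1t.kummer R a n) L))
  rw [PrimeSpectrum.localization_away_comap_range L T] at hc
  refine isConnected_iff_connectedSpace.1 ?_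
  suffices hs : ∀ q : Spec (CommRingCat.of (SGA1t.kummer R a n)),
      Spec.map (CommRingCat.ofHom (algebraMap R (SGA1t.kummer R a n))) q ∈ SGA1t.compl (fun i => m.appTop (φ i)) ↔
        T ∉ q.asIdeal by
    have heq : ((Spec.map (CommRingCat.ofHom (algebraMap R (SGA1t.kummer R a n))) ⁻¹ᵁ
      SGA1t.compl (fun i => m.appTop (φ i)) : (Spec (CommRingCat.of (SGA1t.kummer R a n))).Opens) :
        Set (Spec (CommRingCat.of (SGA1t.kummer R a n)))) = {q | T ∉ q.asIdeal} := Set.ext hs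
    show _root_.IsConnected _
    erw [heq]
    exact hc
  intro q
  rw [mem_compl_pull φ x R g m hm]
  have hT : T = ∏ i, root a n i := Finset.prod_congr rfl fun i _ => kumHom_X e n a he i
  rw [hT, Ideal.IsPrime.prod_mem_iff]
  simp only [Finset.mem_univ, true_and, not_exists]
  refine forall_congr' fun i => not_congr ?_
  show algebraMap R (SGA1t.kummer R a n) _ ∈ q.asIdeal ↔ _
  rw [← ha, ← root_pow]
  exact q.isPrime.pow_mem_iff_mem (n i) (hn i)

section Galois

variable (a : SGA1t.vanishingAt φ x → R) (n : SGA1t.vanishingAt φ x → ℕ)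
variable (U : (Spec (CommRingCat.of R)).Opens)

/-- The projection of the Kummer scheme. -/
noncomputable abbrev kumProj : Spec (CommRingCat.of (SGA1t.kummer R a n)) ⟶ Spec (CommRingCat.of R) :=
  Spec.map (CommRingCat.ofHom (algebraMap R (SGA1t.kummer R a n)))

omit [IsLocalRing R] in
theorem twist_algebraMap (ζ : ∀ i, rootsOfUnity (n i) R) (c : R) :
    SGA1t.kummerTwist R a n ζ (algebraMap R _ c) = algebraMap R _ c := by
  show Ideal.Quotient.lift _ _ _ (Ideal.Quotient.mk _ (MvPolynomial.C c)) = _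
  rw [Ideal.Quotient.lift_mk]
  simp
  rfl

omit [IsLocalRing R] in
theorem twist_root (ζ : ∀ i, rootsOfUnity (n i) R) (i : SGA1t.vanishingAt φ x) :
    SGA1t.kummerTwist R a n ζ (root a n i) = algebraMap R _ ((ζ i : Rˣ) : R) * root a n i := by
  show Ideal.Quotient.lift _ _ _ (Ideal.Quotient.mk _ (MvPolynomial.X i)) = _
  rw [Ideal.Quotient.lift_mk]
  simp
  rfl

omit [IsLocalRing R] in
theorem twist_mul (ζ η : ∀ i, rootsOfUnity (n i) R) :
    (SGA1t.kummerTwist R a n ζ).comp (SGA1t.kummerTwist R a n η) = SGA1t.kummerTwist R a n (ζ * η) := by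
  refine kum_hom_ext a n (fun c => ?_) (fun i => ?_)
  · simp [twist_algebraMap φ x R a n]
  · rw [RingHom.comp_apply, twist_root φ x R a n, map_mul, twist_algebraMap φ x R a n, twist_root φ x R a n,
      twist_root φ x R a n]
    simp only [Pi.mul_apply, Subgroup.coe_mul, Units.val_mul, map_mul]
    ring

omit [IsLocalRing R] in
theorem twist_one : SGA1t.kummerTwist R a n 1 = RingHom.id _ := by
  refine kum_hom_ext a n (fun c => twist_algebraMap φ x R a n 1 c) (fun i => ?_)
  rw [twist_root φ x R a n]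
  simp

omit [IsLocalRing R] in
theorem twist_proj (ζ : ∀ i, rootsOfUnity (n i) R) :
    Spec.map (CommRingCat.ofHom (SGA1t.kummerTwist R a n ζ)) ≫ kumProj φ x R a n = kumProj φ x R a n := by
  rw [kumProj, ← Spec.map_comp]
  congr 1
  ext c
  exact twist_algebraMap φ x R a n ζ c

/-- Twists of the part of the Kummer scheme over an open. -/
noncomputable def twistOpen (ζ : ∀ i, rootsOfUnity (n i) R) :
    (kumProj φ x R a n ⁻¹ᵁ U).toScheme ⟶ (kumProj φ x R a n ⁻¹ᵁ U).toScheme :=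
  IsOpenImmersion.lift (kumProj φ x R a n ⁻¹ᵁ U).ι
    ((kumProj φ x R a n ⁻¹ᵁ U).ι ≫ Spec.map (CommRingCat.ofHom (SGA1t.kummerTwist R a n ζ))) (by
      rintro _ ⟨v, rfl⟩
      rw [Scheme.Opens.range_ι]
      show kumProj φ x R a n _ ∈ U
      rw [← Scheme.Hom.comp_apply, Category.assoc, twist_proj φ x R a n]
      exact v.2)

omit [IsLocalRing R] in
theorem twistOpen_ι (ζ : ∀ i, rootsOfUnity (n i) R) : twistOpen φ x R a n U ζ ≫ (kumProj φ x R a n ⁻¹ᵁ U).ι =
    (kumProj φ x R a n ⁻¹ᵁ U).ι ≫ Spec.map (CommRingCat.ofHom (SGA1t.kummerTwist R a n ζ)) :=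
  IsOpenImmersion.lift_fac _ _ _

omit [IsLocalRing R] in
theorem twistOpen_mul (ζ η : ∀ i, rootsOfUnity (n i) R) :
    twistOpen φ x R a n U ζ ≫ twistOpen φ x R a n U η = twistOpen φ x R a n U (ζ * η) := by
  rw [← cancel_mono (kumProj φ x R a n ⁻¹ᵁ U).ι, Category.assoc, twistOpen_ι, ← Category.assoc, twistOpen_ι,
    twistOpen_ι, Category.assoc, ← Spec.map_comp, ← CommRingCat.ofHom_comp, twist_mul φ x R a n]

omit [IsLocalRing R] in
theorem twistOpen_one : twistOpen φ x R a n U 1 = 𝟙 _ := by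
  rw [← cancel_mono (kumProj φ x R a n ⁻¹ᵁ U).ι, twistOpen_ι, twist_one φ x R a n, CommRingCat.ofHom_id,
    Spec.map_id, Category.comp_id, Category.id_comp]

omit [IsLocalRing R] in
theorem twistOpen_restrict (ζ : ∀ i, rootsOfUnity (n i) R) :
    twistOpen φ x R a n U ζ ≫ (kumProj φ x R a n ∣_ U) = kumProj φ x R a n ∣_ U := by
  rw [← cancel_mono U.ι, Category.assoc, morphismRestrict_ι, ← Category.assoc, twistOpen_ι, Category.assoc,
    twist_proj φ x R a n]

theorem exists_primitiveRoot [HenselianLocalRing R] [IsSepClosed (IsLocalRing.ResidueField R)] (N : ℕ)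
    (hN1 : 1 ≤ N) (hN : IsUnit (N : R)) : ∃ z : R, IsPrimitiveRoot z N := by
  haveI : NeZero N := ⟨by omega⟩
  have hres : ((N : ℕ) : IsLocalRing.ResidueField R) ≠ 0 := by
    rw [← map_natCast (IsLocalRing.residue R)]
    exact (hN.map _).ne_zero
  haveI : NeZero ((N : ℕ) : IsLocalRing.ResidueField R) := ⟨hres⟩
  obtain ⟨w, hw⟩ := HasEnoughRootsOfUnity.exists_primitiveRoot (IsLocalRing.ResidueField R) N
  obtain ⟨w₀, rfl⟩ := IsLocalRing.residue_surjective w
  obtain ⟨z, hz, hzw⟩ := HenselianLocalRing.is_henselian (Polynomial.X ^ N - Polynomial.C (1 : R))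
    (Polynomial.monic_X_pow_sub_C 1 (NeZero.ne N)) w₀ (by
      rw [← IsLocalRing.residue_eq_zero_iff]
      simp [hw.pow_eq_one]) (by
      have hu : IsUnit w₀ := (IsLocalRing.residue_ne_zero_iff_isUnit _).1 (hw.ne_zero (NeZero.ne N))
      simp only [Polynomial.derivative_sub, Polynomial.derivative_X_pow, Polynomial.derivative_C, sub_zero,
        Polynomial.eval_mul, Polynomial.eval_C, Polynomial.eval_pow, Polynomial.eval_X]
      exact hN.mul (hu.pow _))
  have hzw' : IsLocalRing.residue R z = IsLocalRing.residue R w₀ := by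
    rw [← sub_eq_zero, ← map_sub, IsLocalRing.residue_eq_zero_iff]; exact hzw
  refine ⟨z, ⟨?_, fun l hl => hw.dvd_of_pow_eq_one l ?_⟩⟩
  · exact sub_eq_zero.1 (by simpa [Polynomial.IsRoot] using hz)
  · rw [← hzw', ← map_pow, hl, map_one]

variable (ha : ∀ i, a i = g ((X.presheaf.germ ⊤ x trivial).hom (φ i.1)))

include hm ha in
/-- The Galois group of the Kummer cover. -/
theorem galois [HenselianLocalRing R] [IsSepClosed (IsLocalRing.ResidueField R)]
    (hn : ∀ i, 1 ≤ n i) (hnu : ∀ i, IsUnit ((n i : ℕ) : R))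
    [hF : IsFinite (kumProj φ x R a n ∣_ SGA1t.compl (fun i => m.appTop (φ i)))]
    [hE : Etale (kumProj φ x R a n ∣_ SGA1t.compl (fun i => m.appTop (φ i)))]
    (hV : ConnectedSpace ↥(kumProj φ x R a n ⁻¹ᵁ SGA1t.compl (fun i => m.appTop (φ i)))) :
    PiSp.IsGaloisCover
        (MorphismProperty.Over.mk ⊤ (kumProj φ x R a n ∣_ SGA1t.compl (fun i => m.appTop (φ i))) ⟨hF, hE⟩ :
          FEt.Cat (SGA1t.compl (fun i => m.appTop (φ i)) : Scheme.{u})) ∧
      ∃ θ : ((i : SGA1t.vanishingAt φ x) → ↥(rootsOfUnity (n i) R)) ≃*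
          Aut (MorphismProperty.Over.mk ⊤ (kumProj φ x R a n ∣_ SGA1t.compl (fun i => m.appTop (φ i))) ⟨hF, hE⟩ :
            FEt.Cat (SGA1t.compl (fun i => m.appTop (φ i)) : Scheme.{u})),
        ∀ ζ, (θ ζ).hom.left ≫ (kumProj φ x R a n ⁻¹ᵁ SGA1t.compl (fun i => m.appTop (φ i))).ι =
          (kumProj φ x R a n ⁻¹ᵁ SGA1t.compl (fun i => m.appTop (φ i))).ι ≫
            Spec.map (CommRingCat.ofHom (SGA1t.kummerTwist R a n ζ)) := by
  let U₁ := SGA1t.compl (fun i => m.appTop (φ i))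
  let π := kumProj φ x R a n
  let Z : FEt.Cat (U₁ : Scheme.{u}) := MorphismProperty.Over.mk ⊤ (π ∣_ U₁) ⟨hF, hE⟩
  let V := π ⁻¹ᵁ U₁
  let T := twistOpen φ x R a n U₁
  let iso (ζ : ∀ i, rootsOfUnity (n i) R) : Z ≅ Z :=
    { hom := MorphismProperty.Over.homMk (T ζ) (twistOpen_restrict φ x R a n U₁ ζ)
      inv := MorphismProperty.Over.homMk (T ζ⁻¹) (twistOpen_restrict φ x R a n U₁ ζ⁻¹)
      hom_inv_id := MorphismProperty.Over.Hom.ext (show T ζ ≫ T ζ⁻¹ = 𝟙 _ by
        rw [twistOpen_mul, mul_inv_cancel, twistOpen_one])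
      inv_hom_id := MorphismProperty.Over.Hom.ext (show T ζ⁻¹ ≫ T ζ = 𝟙 _ by
        rw [twistOpen_mul, inv_mul_cancel, twistOpen_one]) }
  let θ₀ : ((i : SGA1t.vanishingAt φ x) → ↥(rootsOfUnity (n i) R)) →* Aut Z :=
    { toFun := iso
      map_one' := Iso.ext (MorphismProperty.Over.Hom.ext (show T 1 = 𝟙 _ from twistOpen_one φ x R a n U₁))
      map_mul' := fun ζ η => Iso.ext (MorphismProperty.Over.Hom.ext (show T (ζ * η) = T η ≫ T ζ by
        rw [twistOpen_mul, mul_comm])) }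
  -- points of the cover with values in a field
  have pts : ∀ (Ω : Type u) [Field Ω] (v : Spec (CommRingCat.of Ω) ⟶ V.toScheme),
      ∃ ψ : SGA1t.kummer R a n →+* Ω, Spec.map (CommRingCat.ofHom ψ) = v ≫ V.ι ∧
        ∀ i, ψ (root a n i) ≠ 0 := by
    intro Ω _ v
    refine ⟨(Spec.preimage (v ≫ V.ι)).hom, by rw [CommRingCat.ofHom_hom, Spec.map_preimage], fun i h0 => ?_⟩
    have hv : π ((v ≫ V.ι) (IsLocalRing.closedPoint Ω)) ∈ U₁ := (v (IsLocalRing.closedPoint Ω)).2
    have h1 := (mem_compl_pull φ x R g m hm _).1 hv i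
    refine h1 ?_
    rw [← ha]
    show algebraMap R (SGA1t.kummer R a n) (a i) ∈ ((v ≫ V.ι) (IsLocalRing.closedPoint Ω)).asIdeal
    rw [← Spec.map_preimage (v ≫ V.ι), ← root_pow]
    show (Spec.preimage (v ≫ V.ι)).hom (root a n i ^ n i) ∈ IsLocalRing.maximalIdeal Ω
    rw [map_pow, h0, zero_pow (by have := hn i; omega)]
    exact zero_mem _
  have htrans : ∀ (Ω : Type u) [Field Ω] (s t : Spec (CommRingCat.of Ω) ⟶ V.toScheme),
      s ≫ (π ∣_ U₁) = t ≫ (π ∣_ U₁) → ∃ ζ, s ≫ T ζ = t := by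
    intro Ω _ s t hst
    obtain ⟨ψ, hψ, hψ0⟩ := pts Ω s
    obtain ⟨χ, hχ, -⟩ := pts Ω t
    have hc : ∀ c, ψ (algebraMap R _ c) = χ (algebraMap R _ c) := by
      have h1 : Spec.map (CommRingCat.ofHom ψ) ≫ π = Spec.map (CommRingCat.ofHom χ) ≫ π := by
        rw [hψ, hχ, Category.assoc, Category.assoc, ← morphismRestrict_ι, ← Category.assoc, hst, Category.assoc]
      rw [← Spec.map_comp, ← Spec.map_comp] at h1
      intro c
      exact congrArg (fun h => (h : CommRingCat.of R ⟶ CommRingCat.of Ω).hom c) (Spec.map_injective h1)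
    have hex : ∀ i, ∃ z : ↥(rootsOfUnity (n i) R),
        ψ (algebraMap R _ ((z : Rˣ) : R)) = χ (root a n i) / ψ (root a n i) := fun i => by
      obtain ⟨z₀, hz₀⟩ := exists_primitiveRoot R (n i) (hn i) (hnu i)
      refine PrincipalCoverLib.exists_rootsOfUnity_eq (hn i) (hnu i) hz₀
        (ψ.comp (algebraMap R (SGA1t.kummer R a n))) ?_
      rw [div_pow, ← map_pow χ, ← map_pow ψ, root_pow, ← hc, div_self]
      rw [← root_pow, map_pow]
      exact pow_ne_zero _ (hψ0 i)
    choose ζ hζ using hex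
    refine ⟨ζ, ?_⟩
    rw [← cancel_mono V.ι, Category.assoc, twistOpen_ι, ← Category.assoc, ← hψ, ← hχ, ← Spec.map_comp,
      ← CommRingCat.ofHom_comp]
    congr 2
    refine kum_hom_ext a n (fun c => ?_) (fun i => ?_)
    · rw [RingHom.comp_apply, twist_algebraMap φ x R a n, hc]
    · rw [RingHom.comp_apply, twist_root φ x R a n, map_mul, hζ, div_mul_cancel₀ _ (hψ0 i)]
  -- a geometric point
  haveI := hV
  haveI : ConnectedSpace V.toScheme := hV
  haveI : Etale (π ∣_ U₁) := hE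
  haveI : IsFinite (π ∣_ U₁) := hF
  let v₀ : V.toScheme := Classical.arbitrary _
  let Ω₀ := AlgebraicClosure (V.toScheme.residueField v₀)
  let s₀ : Spec (CommRingCat.of Ω₀) ⟶ V.toScheme :=
    Spec.map (CommRingCat.ofHom (algebraMap (V.toScheme.residueField v₀) Ω₀)) ≫ V.toScheme.fromSpecResidueField v₀
  have hθinj : Function.Injective θ₀ := fun ζ η h => funext fun i => by
    obtain ⟨ψ, hψ, hψ0⟩ := pts Ω₀ s₀
    have h1 : s₀ ≫ T ζ ≫ V.ι = s₀ ≫ T η ≫ V.ι := by
      rw [show T ζ = T η from congrArg (fun w : Aut Z => w.hom.left) h]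
    rw [twistOpen_ι, twistOpen_ι, ← Category.assoc, ← Category.assoc, ← hψ, ← Spec.map_comp, ← Spec.map_comp] at h1
    have h2 := congrArg (fun q => (q : CommRingCat.of (SGA1t.kummer R a n) ⟶ CommRingCat.of Ω₀).hom (root a n i))
      (Spec.map_injective h1)
    change ψ (SGA1t.kummerTwist R a n ζ (root a n i)) = ψ (SGA1t.kummerTwist R a n η (root a n i)) at h2
    rw [twist_root φ x R a n, twist_root φ x R a n, map_mul, map_mul] at h2
    exact PrincipalCoverLib.injective_map (hnu i) (ψ.comp (algebraMap R _)) (mul_right_cancel₀ (hψ0 i) h2)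
  have hθsurj : Function.Surjective θ₀ := fun w => by
    have hw : w.hom.left ≫ (π ∣_ U₁) = π ∣_ U₁ := MorphismProperty.Over.w w.hom
    obtain ⟨ζ, hζ⟩ := htrans Ω₀ s₀ (s₀ ≫ w.hom.left) (by
      show s₀ ≫ (π ∣_ U₁) = _
      rw [Category.assoc]
      exact congrArg (s₀ ≫ ·) hw.symm)
    refine ⟨ζ, Iso.ext (MorphismProperty.Over.Hom.ext ?_)⟩
    haveI : Nonempty (Spec (CommRingCat.of Ω₀)) := ⟨IsLocalRing.closedPoint Ω₀⟩
    exact UnramEqLib.eq_of_connected (π ∣_ U₁) (T ζ) w.hom.left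
      ((twistOpen_restrict φ x R a n U₁ ζ).trans hw.symm) s₀ hζ
  refine ⟨⟨hV, fun Ω _ _ ξ s t => ?_⟩, MulEquiv.ofBijective θ₀ ⟨hθinj, hθsurj⟩, fun ζ => twistOpen_ι φ x R a n U₁ ζ⟩
  obtain ⟨ζ, hζ⟩ := htrans Ω s.1 t.1 (s.2.trans t.2.symm)
  exact ⟨θ₀ ζ, Subtype.ext hζ⟩

end Galois

end KummerConnLib
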