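import Mathlib

/-! Radical extensions with enough roots of unity. -/

set_option autoImplicit false
set_option linter.style.haveILetI false
universe u

open Polynomial

namespace KummerConnLib

variable {K L : Type u} [Field K] [Field L] [Algebra K L] {ι : Type*} [Fintype ι]

/-- Radical extensions are Galois of degree dividing the product of the exponents. -/
theorem galois_of_radical (n : ι → ℕ) (t : ι → L) (hn : ∀ i, ((n i : ℕ) : K) ≠ 0)
    (hζ : ∀ i, ∃ z : K, IsPrimitiveRoot z (n i)) (ht : ∀ i, ∃ a : K, algebraMap K L a = t i ^ n i)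
    (ht0 : ∀ i, t i ≠ 0) (htop : IntermediateField.adjoin K (Set.range t) = ⊤) :
    FiniteDimensional K L ∧ IsGalois K L ∧ Module.finrank K L ∣ ∏ i, n i := by
  classical
  choose z hz using hζ
  choose a ha using ht
  have hn0 : ∀ i, n i ≠ 0 := fun i h => hn i (by rw [h, Nat.cast_zero])
  have ha0 : ∀ i, a i ≠ 0 := fun i h => ht0 i (eq_zero_of_pow_eq_zero (by rw [← ha, h, map_zero]))
  let P : K[X] := ∏ i, (X ^ n i - C (a i))
  have hP0 : P ≠ 0 := Finset.prod_ne_zero_iff.2 fun i _ => X_pow_sub_C_ne_zero (Nat.pos_of_ne_zero (hn0 i)) _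
  have hsplit : (P.map (algebraMap K L)).Splits := by
    rw [Polynomial.map_prod]
    refine Splits.prod fun i _ => ?_
    rw [Polynomial.map_sub, Polynomial.map_pow, map_X, map_C]
    exact X_pow_sub_C_splits_of_isPrimitiveRoot ((hz i).map_of_injective (algebraMap K L).injective) (ha i).symm
  have hmem : Set.range t ⊆ P.rootSet L := by
    rintro _ ⟨i, rfl⟩
    rw [mem_rootSet]
    refine ⟨hP0, ?_⟩
    rw [map_prod]
    exact Finset.prod_eq_zero (Finset.mem_univ i) (by simp [ha i])
  haveI : P.IsSplittingField K L := by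
    exact ⟨hsplit, top_unique (by
        rw [← IntermediateField.top_toSubalgebra, ← htop,
          IntermediateField.adjoin_toSubalgebra_of_isAlgebraic]
        · exact Algebra.adjoin_mono hmem
        · rintro _ ⟨i, rfl⟩
          exact ⟨X ^ n i - C (a i), X_pow_sub_C_ne_zero (Nat.pos_of_ne_zero (hn0 i)) _, by simp [ha i]⟩)⟩
  haveI : FiniteDimensional K L := IsSplittingField.finiteDimensional L P
  haveI : Normal K L := Normal.of_isSplittingField P
  haveI : Algebra.IsSeparable K L := by
    have h : Algebra.IsSeparable K (IntermediateField.adjoin K (Set.range t)) :=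
      (IntermediateField.isSeparable_adjoin_iff_isSeparable K L).2 (by
        rintro _ ⟨i, rfl⟩
        exact (separable_X_pow_sub_C (a i) (hn i) (ha0 i)).of_dvd (minpoly.dvd K _ (by simp [ha i])))
    rw [htop] at h
    exact AlgEquiv.Algebra.isSeparable IntermediateField.topEquiv
  haveI : IsGalois K L := ⟨⟩
  refine ⟨inferInstance, inferInstance, ?_⟩
  haveI : ∀ i, NeZero (n i) := fun i => ⟨hn0 i⟩
  have hfix : ∀ (g : L ≃ₐ[K] L) (i : ι) (y : L), y ^ n i = 1 → g y = y := fun g i y hy => by
    obtain ⟨k, -, rfl⟩ := ((hz i).map_of_injective (algebraMap K L).injective).eq_pow_of_pow_eq_one hy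
    rw [map_pow, AlgEquiv.commutes]
  have hone : ∀ (g : L ≃ₐ[K] L) i, (g (t i) / t i) ^ n i = 1 := fun g i => by
    rw [div_pow, ← map_pow, ← ha, AlgEquiv.commutes, div_self]
    rw [ha]
    exact pow_ne_zero _ (ht0 i)
  let χ : (L ≃ₐ[K] L) →* ((i : ι) → ↥(rootsOfUnity (n i) L)) :=
    { toFun := fun g i => rootsOfUnity.mkOfPowEq (g (t i) / t i) (hone g i)
      map_one' := funext fun i => Subtype.ext (Units.ext (by simp [div_self (ht0 i)]))
      map_mul' := fun g h => funext fun i => Subtype.ext (Units.ext (by
        show g (h (t i)) / t i = g (t i) / t i * (h (t i) / t i)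
        conv_rhs => rw [← hfix g i _ (hone h i)]
        rw [map_div₀, div_mul_div_comm, mul_comm (g (t i)), mul_div_mul_right]
        exact (map_ne_zero g).2 (ht0 i))) }
  have hχ : Function.Injective χ := (injective_iff_map_eq_one χ).2 fun g hg => AlgEquiv.ext fun y => by
    have hy : y ∈ IntermediateField.adjoin K (Set.range t) := htop ▸ IntermediateField.mem_top
    induction hy using IntermediateField.adjoin_induction with
    | mem y hy =>
      obtain ⟨i, rfl⟩ := hy
      have h : g (t i) / t i = 1 := congrArg (fun q : rootsOfUnity (n i) L => ((q : Lˣ) : L)) (congrFun hg i)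
      exact (div_eq_one_iff_eq (ht0 i)).1 h
    | algebraMap c => simp
    | add p q _ _ hp hq => simp [hp, hq]
    | inv p _ hp => simp [hp]
    | mul p q _ _ hp hq => simp [hp, hq]
  rw [← IsGalois.card_aut_eq_finrank]
  refine (Subgroup.card_dvd_of_injective χ hχ).trans ?_
  rw [Nat.card_pi]
  refine Finset.prod_dvd_prod_of_dvd _ _ fun i _ => ?_
  rw [((hz i).map_of_injective (algebraMap K L).injective).card_rootsOfUnity]

end KummerConnLib
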