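import Groth.Agent.KummerConnLib.Main
import Groth.Agent.KummerConnLib.Etale
import Groth.Agent.KummerConnLib.Radical
import Groth.Agent.KummerSmLib.Tame
import Groth.Agent.EtRamTameLib.GaloisDegree

/-! Kummer covers of a local scheme: finite etale over the complement and tame. -/

set_option autoImplicit false
set_option linter.style.haveILetI false
set_option backward.isDefEq.respectTransparency false
set_option maxHeartbeats 2000000
set_option synthInstance.maxHeartbeats 200000
universe u

open CategoryTheory CategoryTheory.Limits AlgebraicGeometry SGA1t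

namespace KummerConnLib

variable {X : Scheme.{u}} {r : ℕ} (φ : Fin r → Γ(X, ⊤)) (x : X)
  (R : Type u) [CommRing R] [IsLocalRing R] (g : X.presheaf.stalk x →+* R) [IsLocalHom g]
  (m : Spec (CommRingCat.of R) ⟶ X) (hm : m = Spec.map (CommRingCat.ofHom g) ≫ X.fromSpecStalk x)
  (a : SGA1t.vanishingAt φ x → R) (n : SGA1t.vanishingAt φ x → ℕ)
  (ha : ∀ i, a i = g ((X.presheaf.germ ⊤ x trivial).hom (φ i.1)))

include hm ha in
theorem mem_preimage_iff (hn : ∀ i, 1 ≤ n i) (q : Spec (CommRingCat.of (SGA1t.kummer R a n))) :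
    kumProj φ x R a n q ∈ SGA1t.compl (fun i => m.appTop (φ i)) ↔ ∀ i, root a n i ∉ q.asIdeal := by
  rw [mem_compl_pull φ x R g m hm]
  refine forall_congr' fun i => not_congr ?_
  show algebraMap R (SGA1t.kummer R a n) _ ∈ q.asIdeal ↔ _
  rw [← ha, ← root_pow]
  exact q.isPrime.pow_mem_iff_mem (n i) (hn i)

omit [IsLocalRing R] in
theorem isFinite_kumProj (hn : ∀ i, 1 ≤ n i) : IsFinite (kumProj φ x R a n) := by
  haveI := isIntegral_kummer a n hn
  haveI : Algebra.FiniteType R (SGA1t.kummer R a n) := inferInstance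
  haveI : Module.Finite R (SGA1t.kummer R a n) := Algebra.IsIntegral.finite
  exact (IsFinite.SpecMap_iff _).2 (RingHom.finite_algebraMap.2 ‹_›)

include hm ha in
theorem etale_restrict (hn : ∀ i, 1 ≤ n i) (hnu : ∀ i, IsUnit ((n i : ℕ) : R)) :
    Etale (kumProj φ x R a n ∣_ SGA1t.compl (fun i => m.appTop (φ i))) := by
  classical
  letI := Fintype.ofFinite (SGA1t.vanishingAt φ x)
  let U := SGA1t.compl (fun i => m.appTop (φ i))
  let π := kumProj φ x R a n
  let T : SGA1t.kummer R a n := ∏ i, root a n i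
  let L := Localization.Away T
  haveI : Algebra.Etale R L := etale_away a n hnu L
  let b : Spec (CommRingCat.of L) ⟶ Spec (CommRingCat.of (SGA1t.kummer R a n)) :=
    Spec.map (CommRingCat.ofHom (algebraMap (SGA1t.kummer R a n) L))
  haveI : IsOpenImmersion b := IsOpenImmersion.of_isLocalization T
  have hrange : Set.range (π ⁻¹ᵁ U).ι.base = Set.range b.base := by
    rw [Scheme.Opens.range_ι]
    refine Eq.trans ?_ (PrimeSpectrum.localization_away_comap_range L T).symm
    ext q
    show π q ∈ U ↔ T ∉ q.asIdeal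
    rw [mem_preimage_iff φ x R g m hm a n ha hn, Ideal.IsPrime.prod_mem_iff]
    simp
  let e := IsOpenImmersion.isoOfRangeEq (π ⁻¹ᵁ U).ι b hrange
  haveI : Etale (b ≫ π) := by
    rw [← Spec.map_comp, HasRingHomProperty.Spec_iff (P := @Etale)]
    have h : RingHom.Etale (algebraMap R L) := RingHom.etale_algebraMap.2 ‹_›
    rwa [IsScalarTower.algebraMap_eq R (SGA1t.kummer R a n) L] at h
  haveI : Etale ((π ∣_ U) ≫ U.ι) := by
    rw [morphismRestrict_ι, ← IsOpenImmersion.isoOfRangeEq_hom_fac (π ⁻¹ᵁ U).ι b hrange, Category.assoc]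
    infer_instance
  exact Etale.of_comp (π ∣_ U) U.ι

include hm ha in
/-- Kummer covers are tame. -/
theorem isRelTame {S : Scheme.{u}} (fS : Spec (CommRingCat.of R) ⟶ S) (hn : ∀ i, 1 ≤ n i)
    (hnu : ∀ i, IsUnit ((n i : ℕ) : R))
    [hF : IsFinite (kumProj φ x R a n ∣_ SGA1t.compl (fun i => m.appTop (φ i)))]
    [hE : Etale (kumProj φ x R a n ∣_ SGA1t.compl (fun i => m.appTop (φ i)))] :
    SGA1t.IsRelTame fS (fun i => m.appTop (φ i))
      (MorphismProperty.Over.mk ⊤ (kumProj φ x R a n ∣_ SGA1t.compl (fun i => m.appTop (φ i))) ⟨hF, hE⟩) := by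
  classical
  intro Ω _ _ σ _ y hdom hdvr w h hne
  haveI := hdvr
  letI := Fintype.ofFinite (SGA1t.vanishingAt φ x)
  let U := SGA1t.compl (fun i => m.appTop (φ i))
  let π := kumProj φ x R a n
  let W := π ⁻¹ᵁ U
  let sV : W.toScheme ⟶ Spec (CommRingCat.of R) := (π ∣_ U) ≫ U.ι
  let V := pullback sV (pullback.fst fS σ)
  let q : V ⟶ pullback fS σ := pullback.snd sV (pullback.fst fS σ)
  let K := (pullback fS σ).residueField (q w)
  let L := V.residueField w
  letI : Algebra K L := (q.residueFieldMap w).hom.toAlgebra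
  let pK : Spec (CommRingCat.of K) ⟶ pullback fS σ := (pullback fS σ).fromSpecResidueField (q w)
  let pW : Spec (CommRingCat.of L) ⟶ V := V.fromSpecResidueField w
  have hnat : Spec.map (CommRingCat.ofHom (algebraMap K L)) ≫ pK = pW ≫ q :=
    Scheme.Hom.SpecMap_residueFieldMap_fromSpecResidueField q w
  let αK : R →+* K := (Spec.preimage (pK ≫ pullback.fst fS σ)).hom
  have hαK : Spec.map (CommRingCat.ofHom αK) = pK ≫ pullback.fst fS σ := Spec.map_preimage _
  let βK : Ω →+* K := (Spec.preimage (pK ≫ pullback.snd fS σ)).hom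
  let ψ : SGA1t.kummer R a n →+* L := (Spec.preimage (pW ≫ pullback.fst sV (pullback.fst fS σ) ≫ W.ι)).hom
  have hψ : Spec.map (CommRingCat.ofHom ψ) = pW ≫ pullback.fst sV (pullback.fst fS σ) ≫ W.ι := Spec.map_preimage _
  let t : SGA1t.vanishingAt φ x → L := fun i => ψ (root a n i)
  have hψα : ∀ c, ψ (algebraMap R _ c) = algebraMap K L (αK c) := by
    have h1 : Spec.map (CommRingCat.ofHom ψ) ≫ π =
        Spec.map (CommRingCat.ofHom (algebraMap K L)) ≫ Spec.map (CommRingCat.ofHom αK) := by
      rw [hψ, hαK, reassoc_of% hnat, Category.assoc, Category.assoc, ← morphismRestrict_ι]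
      exact congrArg (pW ≫ ·) (pullback.condition (f := sV) (g := pullback.fst fS σ))
    rw [← Spec.map_comp, ← Spec.map_comp] at h1
    exact fun c => congrArg (fun h => (h : CommRingCat.of R ⟶ CommRingCat.of L).hom c) (Spec.map_injective h1)
  have ht0 : ∀ i, t i ≠ 0 := fun i h0 => by
    have hmem := (pW ≫ pullback.fst sV (pullback.fst fS σ)) (IsLocalRing.closedPoint L) |>.2
    refine (mem_preimage_iff φ x R g m hm a n ha hn _).1 hmem i ?_
    show root a n i ∈ ((pW ≫ pullback.fst sV (pullback.fst fS σ) ≫ W.ι) (IsLocalRing.closedPoint L)).asIdeal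
    rw [← hψ]
    show ψ (root a n i) ∈ IsLocalRing.maximalIdeal L
    rw [show ψ (root a n i) = 0 from h0]
    exact zero_mem _
  have htn : ∀ i, algebraMap K L (αK (a i)) = t i ^ n i := fun i => by
    rw [← hψα, ← root_pow, map_pow]
  -- the residue field is generated by the roots
  let F := IntermediateField.adjoin K (Set.range t)
  let tF : SGA1t.vanishingAt φ x → F := fun i => ⟨t i, IntermediateField.subset_adjoin K _ ⟨i, rfl⟩⟩
  let ψF : SGA1t.kummer R a n →+* F := kumLift a n ((algebraMap K F).comp αK) tF fun i =>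
    Subtype.ext (htn i).symm
  have hψF : (algebraMap F L).comp ψF = ψ := kum_hom_ext a n
    (fun c => by
      rw [RingHom.comp_apply, kumLift_algebraMap, hψα]
      rfl)
    (fun i => by
      rw [RingHom.comp_apply, kumLift_root]
      rfl)
  let v : Spec (CommRingCat.of L) ⟶ Spec (CommRingCat.of F) := Spec.map (CommRingCat.ofHom (algebraMap F L))
  have hvpt : ∀ z : Spec (CommRingCat.of F), z = v (IsLocalRing.closedPoint L) := fun z => by
    haveI : Subsingleton (Spec (CommRingCat.of F)) := inferInstanceAs (Subsingleton (PrimeSpectrum F))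
    exact Subsingleton.elim _ _
  have hvψ : v ≫ Spec.map (CommRingCat.ofHom ψF) = Spec.map (CommRingCat.ofHom ψ) := by
    rw [← Spec.map_comp, ← CommRingCat.ofHom_comp, hψF]
  let p1 : Spec (CommRingCat.of F) ⟶ W.toScheme := IsOpenImmersion.lift W.ι (Spec.map (CommRingCat.ofHom ψF)) (by
    rintro _ ⟨z, rfl⟩
    refine ⟨(pW ≫ pullback.fst sV (pullback.fst fS σ)) (IsLocalRing.closedPoint L), ?_⟩
    rw [hvpt z, ← Scheme.Hom.comp_apply, ← Scheme.Hom.comp_apply, hvψ, hψ, Category.assoc])
  have hp1 : p1 ≫ W.ι = Spec.map (CommRingCat.ofHom ψF) := IsOpenImmersion.lift_fac _ _ _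
  let p2 : Spec (CommRingCat.of F) ⟶ pullback fS σ := Spec.map (CommRingCat.ofHom (algebraMap K F)) ≫ pK
  let j : Spec (CommRingCat.of F) ⟶ V := pullback.lift p1 p2 (by
    show p1 ≫ (π ∣_ U) ≫ U.ι = _
    rw [morphismRestrict_ι, reassoc_of% hp1, Category.assoc, ← hαK, ← Spec.map_comp, ← Spec.map_comp]
    congr 1
    ext c
    exact congrArg Subtype.val (kumLift_algebraMap a n ((algebraMap K F).comp αK) tF (fun i => Subtype.ext (htn i).symm) c))
  have hj : v ≫ j = pW := by
    refine pullback.hom_ext ?_ ?_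
    · rw [Category.assoc, pullback.lift_fst, ← cancel_mono W.ι, Category.assoc, hp1, hvψ, hψ, Category.assoc]
    · rw [Category.assoc, pullback.lift_snd, show pW ≫ pullback.snd sV (pullback.fst fS σ) = pW ≫ q from rfl,
        ← hnat, ← Category.assoc, ← Spec.map_comp]
      congr 2
  obtain ⟨w', χ, hw'⟩ : ∃ (w' : V) (χ : V.residueField w' ⟶ CommRingCat.of F),
      Spec.map χ ≫ V.fromSpecResidueField w' = j :=
    ⟨_, _, Scheme.descResidueField_stalkClosedPointTo_fromSpecResidueField F V j⟩
  have hww : w' = w := by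
    have h1 := congrArg (fun p => p (IsLocalRing.closedPoint L)) hj
    simp only [← hw', pW, Scheme.Hom.comp_apply, Scheme.fromSpecResidueField_apply] at h1
    exact h1.trans (Scheme.fromSpecResidueField_apply _ _)
  subst hww
  have htop : F = ⊤ := by
    have h1 : Spec.map (χ ≫ CommRingCat.ofHom (algebraMap F L)) ≫ pW = 𝟙 _ ≫ pW := by
      rw [Spec.map_comp, Category.assoc, Category.id_comp]
      exact (congrArg (v ≫ ·) hw').trans hj
    rw [cancel_mono, ← Spec.map_id] at h1
    refine top_unique fun z _ => ?_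
    have h2 := congrArg (fun q => (q : CommRingCat.of L ⟶ CommRingCat.of L).hom z) (Spec.map_injective h1)
    rw [show z = algebraMap F L (χ.hom z) from h2.symm]
    exact (χ.hom z).2
  have hroots : ∀ i, ∃ z : K, IsPrimitiveRoot z (n i) := fun i => by
    haveI : NeZero (n i) := ⟨by have := hn i; omega⟩
    have h0 : ((n i : ℕ) : K) ≠ 0 := by
      rw [← map_natCast αK]
      exact ((hnu i).map αK).ne_zero
    haveI : NeZero ((n i : ℕ) : Ω) := ⟨fun hz => h0 (by rw [← map_natCast βK, hz, map_zero])⟩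
    obtain ⟨z, hz⟩ := HasEnoughRootsOfUnity.exists_primitiveRoot Ω (n i)
    exact ⟨βK z, hz.map_of_injective βK.injective⟩
  obtain ⟨hfd, hgal, hdvd⟩ := galois_of_radical (K := K) (L := L) n t
    (fun i => by rw [← map_natCast αK]; exact ((hnu i).map αK).ne_zero) hroots (fun i => ⟨αK (a i), htn i⟩) ht0 htop
  let A := (pullback fS σ).presheaf.stalk y
  letI : Algebra A K :=
    (((pullback fS σ).residue _).hom.comp ((pullback fS σ).presheaf.stalkSpecializes h).hom).toAlgebra
  haveI : IsFractionRing A K := KummerSmLib.isFractionRing_residueField h hne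
  refine EtRamTameLib.tame_of_isGalois (A := A) (K := K) (L := L) fun h0 => ?_
  let ρ : R →+* IsLocalRing.ResidueField A :=
    (Spec.preimage ((pullback fS σ).fromSpecResidueField y ≫ pullback.fst fS σ)).hom
  obtain ⟨c, hc⟩ := hdvd
  have hu : IsUnit (ρ ((∏ i, n i : ℕ) : R)) := by
    refine IsUnit.map ρ ?_
    rw [Nat.cast_prod]
    exact IsUnit.prod_univ_iff.2 hnu
  rw [map_natCast, hc, Nat.cast_mul, h0, zero_mul] at hu
  exact not_isUnit_zero hu

end KummerConnLib
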